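/-
Coset enumeration data, found by a computer search; checked by `decide +kernel`.
-/
import Cfsg.Agent.Lib.Spor.TC.Check

namespace CfsgLib.Spor.Fi23.CD

open CfsgLib.Spor.TC

def edgeTbl : Tbl :=
  .bin (.tip 0x700008200007000074000070000730000700007000006000071000060000630000600006200006000050000040000640000500005300005000052000050000510000300005400004000043000040000420000400004100003000040000030000330000300003200002000031000020000240000200002300002000020000010000220000100001400001000011000010000100000000001300000000004000000000020000000000100000000000) (.tip 0x900009400009000092000090000910000900009000008000093000080000840000800008100008000080)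

def nodeTbl : Tbl :=
  .bin (.tip 0x83000072000061000044000034000030000021000012000003000000) (.none)

def rowTbl : Tbl :=
  .bin (.tip 0x9000080000700006000050000400003000020000100000) (.none)

def rels : List (List ℕ) := [[0, 1, 0, 1, 0, 1], [0, 2, 0, 2], [0, 3, 0, 3], [0, 4, 0, 4], [1, 2, 1, 2, 1, 2], [1, 3, 1, 3], [1, 4, 1, 4, 1, 4], [2, 3, 2, 3, 2, 3], [2, 4, 2, 4], [3, 4, 3, 4]]

def subs : List (List ℕ) := [[0], [1], [2], [4]]

noncomputable def cert : Cert :=
  ⟨5, rels, subs, edgeTbl.get 44, nodeTbl.get 24, rowTbl.get 20⟩

end CfsgLib.Spor.Fi23.CD
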