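/-
Coset enumeration certificate, found by a computer search.
-/
import Cfsg.Agent.Lib.Spor.Fi23.CD.Data

namespace CfsgLib.Spor.Fi23.CD

open CfsgLib.Spor.TC

def scodes0_0 : List ℕ :=
  [0x10000100003,
   0x10000200003,
   0x10000300003,
   0x10000400003,
   0x1,
   0x9000010000a00003000010000300002,
   0x9000030000a00003000010000600002,
   0x9000080000a00002000010000a00002,
   0x1,
   0x110000b0001200003000020000200002,
   0x1100009000060000a0001200002000020000800002,
   0x11000100001200002000020000900002,
   0x1,
   0x19000110000e000120001a00002000030000500002,
   0x19000160001a00002000030000600002,
   0x1,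
   0x1f00019000140001a0002000002000040000100002,
   0x1f0001c0002000002000040000200002,
   0x1f0001e0002000002000040000300002,
   0x1,
   0x2700019000180001a0002800003000030000700002,
   0x270001b0002800003000040000900002,
   0x270001d0002800003000040000a00002,
   0x1,
   0x27000200003000003000040000400002,
   0x2f000230003000003000050000900002,
   0x2f000250003000003000050000a00002,
   0x1,
   0x37000320002a000310003800003000060000100002,
   0x37000360003800002000070000600002,
   0x370002f00022000300003800002000070000700002,
   0x1,
   0x3f000390004000003000080000200002,
   0x3f0003700034000380004000003000070000500002,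
   0x3f0003e0004000002000080000900002,
   0x1,
   0x47000410004800003000090000300002,
   0x47000430004800003000090000600002,
   0x470003f0003c000400004800003000080000800002,
   0x47000460004800002000090000a00002]

def scodes0_ : List ℕ :=
  scodes0_0

set_option maxRecDepth 100000 in
theorem steps0 : cert.StepsOK 0 40 :=
  Cert.StepsOK.of_check _ (codes := scodes0_) (by decide +kernel)

def rcodes0_0 : List ℕ :=
  [0x70000100000800002000005000010000030000100000100001,
   0xf00002000009000010000100000300000d0000200000b00002,
   0x170000300001500003000011000020000180000400001300003,
   0x260000600001d0000400001b000040000190000300001e00005,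
   0x2e0000700002500005000023000050000210000500001f00004,
   0x270000400002d0000600002b000060000290000600003100007,
   0x2f0000500003500007000033000070000360000800003000006,
   0x3d0000800003b0000800003e000090000370000700003900008,
   0x45000090000460000a00003f000080000430000900004100009,
   0x4f0000a0000470000900004d0000a00004b0000a0000490000a]

def rcodes0_ : List ℕ :=
  rcodes0_0

set_option maxRecDepth 100000 in
theorem rows0 : cert.RowsOK 40 10 0 10 :=
  Cert.RowsOK.of_check _ (codes := rcodes0_) (by decide +kernel)

end CfsgLib.Spor.Fi23.CD
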